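import Groth.Agent.H17.EdgeIso.Scheme
import Groth.Agent.H17.EdgeIso.Main
import Groth.Agent.H16Derived.KFlat.StalkTensor
import Groth.Agent.H16Derived.ProjFormula.ClosedImm
import Groth.Agent.H26TF1.Basic
import Groth.Agent.LeadBC.Model
import Groth.Prelude.Def_DCoh4

/-!
# `Ext¹(F, N) = H⁰(X, Ext¹(F, N))` when the sheaf Hom vanishes
-/

set_option autoImplicit false
set_option linter.style.haveILetI false
set_option linter.unusedSectionVars false
set_option synthInstance.maxHeartbeats 800000
set_option maxHeartbeats 1600000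
set_option backward.isDefEq.respectTransparency false

universe w v u

open CategoryTheory CategoryTheory.Limits CategoryTheory.Abelian AlgebraicGeometry Opposite TopologicalSpace

namespace Groth.Agent.H7ExtEdge

open Groth.Agent.H17.EdgeIso

section Abstract

variable {k : Type*} [CommRing k] {A : Type u} [Category.{v} A] [Abelian A] [Linear k A] [HasExt.{w} A]
  [EnoughInjectives A] (G : A ⥤ A) [G.Additive] [PreservesFiniteLimits G] (O F : A)

/-- The sequence `0 → GI/GN → GN' → R¹G N → 0`, with no hypothesis on `R¹G N`. -/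
theorem exists_cokernel_seq_one {S : ShortComplex A} (hS : S.ShortExact) [Injective S.X₂]
    (h0 : Ac O (G.obj S.X₁)) (hI : Ac O (G.obj S.X₂)) :
      ∃ q : G.obj S.X₃ ⟶ (G.rightDerived 1).obj S.X₁, G.map S.g ≫ q = 0 ∧
        (∀ f : O ⟶ G.obj S.X₃, f ≫ q = 0 → ∃ g : O ⟶ G.obj S.X₂, g ≫ G.map S.g = f) ∧
        Function.Surjective fun f : O ⟶ G.obj S.X₃ => f ≫ q := by
  obtain ⟨e⟩ := H15Site.HigherDirect.nonempty_rightDerived_one_iso G hS (G.isZero_rightDerived_obj_injective_succ 0 _)
  haveI := hS.mono_f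
  let B := Abelian.image (G.map S.g)
  have hk : (ShortComplex.mk (G.map S.f) (Abelian.factorThruImage (G.map S.g)) (by
      rw [← cancel_mono (Abelian.image.ι (G.map S.g)), Category.assoc, Abelian.image.fac, zero_comp, ← G.map_comp,
        S.zero, G.map_zero])).ShortExact := by
    refine { exact := ?_, mono_f := inferInstanceAs (Mono (G.map S.f)), epi_g := inferInstanceAs (Epi (Abelian.factorThruImage _)) }
    have h := hS.exact.map_of_mono_of_preservesKernel G inferInstance inferInstance
    refine ShortComplex.exact_of_f_is_kernel _ ?_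
    haveI : Mono (S.map G).f := inferInstanceAs (Mono (G.map S.f))
    refine KernelFork.IsLimit.ofι' _ _ fun {W} g hg => ?_
    refine ⟨h.lift g ?_, h.lift_f g ?_⟩ <;>
    · change g ≫ G.map S.g = 0
      refine (congrArg (g ≫ ·) (Abelian.image.fac (G.map S.g)).symm).trans ?_
      exact (Category.assoc _ _ _).symm.trans ((congrArg (· ≫ Abelian.image.ι (G.map S.g)) hg).trans zero_comp)
  have hB : Ac O B := ac_X₃ hk hI h0
  have hq : (ShortComplex.mk (Abelian.image.ι (G.map S.g)) (cokernel.π (G.map S.g))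
      (kernel.condition _)).ShortExact :=
    { exact := ShortComplex.exact_of_f_is_kernel _ (kernelIsKernel _)
      mono_f := inferInstanceAs (Mono (Abelian.image.ι _))
      epi_g := inferInstanceAs (Epi (cokernel.π _)) }
  refine ⟨cokernel.π (G.map S.g) ≫ e.inv, by simp, fun f hf => ?_, fun g => ?_⟩
  · rw [← Category.assoc, ← cancel_mono e.hom, Category.assoc, e.inv_hom_id, Category.comp_id, zero_comp] at hf
    let f' : O ⟶ B := kernel.lift _ f hf
    obtain ⟨g, hg⟩ := surjective_comp_of_ac hk h0 f'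
    refine ⟨g, ?_⟩
    rw [← Abelian.image.fac (G.map S.g), ← Category.assoc, show g ≫ Abelian.factorThruImage _ = f' from hg]
    exact kernel.lift_ι _ _ _
  · obtain ⟨f, hf⟩ := surjective_comp_of_ac hq hB (g ≫ e.hom)
    exact ⟨f, by dsimp only at hf ⊢; rw [← Category.assoc, hf, Category.assoc, e.hom_inv_id, Category.comp_id]⟩

variable {G O F}

/-- The edge isomorphism in degree one needs acyclicity of `G N` only. -/
theorem nonempty_ext_one_linearEquiv (η : ∀ N : A, (F ⟶ N) ≃ₗ[k] (O ⟶ G.obj N))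
    (hη : ∀ {N N' : A} (f : F ⟶ N) (g : N ⟶ N'), η N' (f ≫ g) = η N f ≫ G.map g)
    (hG : ∀ (I : A) [Injective I], Ac O (G.obj I)) (N : A) (hN : Ac O (G.obj N)) :
    Nonempty (Ext F N 1 ≃ₗ[k] (O ⟶ (G.rightDerived 1).obj N)) := by
  let I := Injective.under N
  let ι : N ⟶ I := Injective.ι N
  let S := ShortComplex.mk ι (cokernel.π ι) (cokernel.condition ι)
  have hS : S.ShortExact :=
    { exact := ShortComplex.exact_of_g_is_cokernel _ (cokernelIsCokernel ι)
      mono_f := inferInstanceAs (Mono (Injective.ι N)) }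
  haveI : Injective S.X₂ := inferInstanceAs (Injective (Injective.under N))
  obtain ⟨q, hq0, hqker, hqsurj⟩ := exists_cokernel_seq_one G O hS hN (hG S.X₂)
  let δ : (F ⟶ S.X₃) →ₗ[k] Ext F S.X₁ 1 :=
    (Ext.postcompOfLinear hS.extClass k F (a := 0) (b := 1) rfl).comp
      (Ext.linearEquiv₀ (R := k) (X := F) (Y := S.X₃)).symm.toLinearMap
  have hδ : ∀ f, δ f = (Ext.mk₀ f).comp hS.extClass (zero_add 1) := fun f => rfl
  have hδs : Function.Surjective δ := fun x => by
    obtain ⟨x₃, hx₃⟩ := Ext.covariant_sequence_exact₁ F hS x (Ext.eq_zero_of_injective _) (zero_add 1)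
    obtain ⟨f, rfl⟩ := (Ext.mk₀_bijective F S.X₃).2 x₃
    exact ⟨f, hx₃⟩
  let p : (F ⟶ S.X₃) →ₗ[k] (O ⟶ (G.rightDerived 1).obj N) :=
    (Linear.rightComp k O q).comp (η S.X₃).toLinearMap
  have hps : Function.Surjective p := fun g => by
    obtain ⟨f, hf⟩ := hqsurj g
    exact ⟨(η S.X₃).symm f, by
      change (η S.X₃) ((η S.X₃).symm f) ≫ q = g
      rw [LinearEquiv.apply_symm_apply]; exact hf⟩
  have hker : LinearMap.ker δ = LinearMap.ker p := by
    ext f
    simp only [LinearMap.mem_ker]
    constructor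
    · intro hf
      obtain ⟨x₂, hx₂⟩ := Ext.covariant_sequence_exact₃ F hS (Ext.mk₀ f) (zero_add 1) hf
      obtain ⟨g, rfl⟩ := (Ext.mk₀_bijective F S.X₂).2 x₂
      rw [Ext.mk₀_comp_mk₀] at hx₂
      rw [← (Ext.mk₀_bijective F S.X₃).1 hx₂]
      change η S.X₃ (g ≫ S.g) ≫ q = 0
      rw [hη, Category.assoc, hq0, comp_zero]
    · intro hf
      obtain ⟨g, hg⟩ := hqker _ hf
      have : f = (η S.X₂).symm g ≫ S.g := (η S.X₃).injective (by rw [hη, LinearEquiv.apply_symm_apply, hg]; rfl)
      rw [hδ, this, ← Ext.mk₀_comp_mk₀, Ext.comp_assoc_of_second_deg_zero, hS.comp_extClass, Ext.comp_zero]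
  exact ⟨(δ.quotKerEquivOfSurjective hδs).symm.trans ((Submodule.quotEquivOfEq _ _ hker).trans
    (p.quotKerEquivOfSurjective hps))⟩

end Abstract

section Scheme

variable {X : Scheme.{u}} {k : Type u} [CommRing k] [X.Over (Spec (CommRingCat.of k))]

variable (k) in
/-- `Ext¹(F, N) = H⁰(X, Ext¹(F, N))` linearly, when the sheaf Hom of `F` into `N` is zero. -/
theorem nonempty_ext_one_linearEquiv_sections (F : X.Modules) [DCoh.HasSheafHom F]
    [(DCoh.sheafHom F).Additive] [HasExt.{u} X.Modules] [HasInjectiveResolutions X.Modules]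
    (N : X.Modules) (h : IsZero ((DCoh.sheafHom F).obj N)) :
    Nonempty (Ext.{u} F N 1 ≃ₗ[k] Coh.HH X (((DCoh.sheafHom F).rightDerived 1).obj N) 0) := by
  haveI : ModSite.HasSheafHom (O := X.sheaf) F := hasSheafHom F
  haveI : HasInjectiveResolutions (ModSite.Mod X.sheaf) := ‹HasInjectiveResolutions X.Modules›
  haveI : IsGrothendieckAbelian.{u} X.Modules := H10Coh.isGrothendieckAbelian_sheafOfModules _
  haveI : EnoughInjectives X.Modules := inferInstance
  haveI : HasExt.{u} (ModSite.Mod X.sheaf) := ‹HasExt.{u} X.Modules›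
  haveI : (sH F).IsRightAdjoint := (sHAdj F).isRightAdjoint
  haveI : PreservesFiniteLimits (sH F) := by
    haveI := (sHAdj F).rightAdjoint_preservesLimits
    infer_instance
  haveI : (sH F).Additive := Functor.additive_of_preserves_binary_products _
  let θ : sH F ≅ DCoh.sheafHom F :=
    ((sHAdj F).ofNatIsoLeft (H15Site.ModTensor.tLIso (O := X.sheaf) F).symm).rightAdjointUniq (DCoh.sheafHomAdj F)
  let r : ((DCoh.tensorBi (X := X)).flip.obj F).obj (Coh.structureModule X) ≅ F :=
    (H15Site.ModOver.tensorUnitIso X.sheaf).app F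
  let η₀ : ∀ M : X.Modules, (F ⟶ M) → (Coh.structureModule X ⟶ (sH F).obj M) :=
    fun M φ => (sHAdj F).homEquiv _ _ (r.hom ≫ φ)
  have hη : ∀ {M M' : X.Modules} (f : F ⟶ M) (g : M ⟶ M'), η₀ M' (f ≫ g) = η₀ M f ≫ (sH F).map g := by
    intro M M' f g
    dsimp only [η₀]
    rw [← Category.assoc, Adjunction.homEquiv_naturality_right]
  have hb : ∀ M, Function.Bijective (η₀ M) := fun M =>
    ((sHAdj F).homEquiv _ _).bijective.comp ⟨fun a b hab => (cancel_epi r.hom).1 hab, fun ψ => ⟨r.inv ≫ ψ, by simp⟩⟩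
  let η : ∀ M : X.Modules, (F ⟶ M) ≃ₗ[k] (Coh.structureModule X ⟶ (sH F).obj M) := fun M =>
    LinearEquiv.ofBijective
      { toFun := η₀ M
        map_add' := fun f g => by
          dsimp only [η₀]
          rw [Preadditive.comp_add, ← (sHAdj F).homAddEquiv_apply, map_add, (sHAdj F).homAddEquiv_apply,
            (sHAdj F).homAddEquiv_apply]
        map_smul' := fun a f => by
          have h1 : ∀ {P Q : X.Modules} (φ : P ⟶ Q), a • φ = φ ≫ Formal.smulMod k Q a := fun φ =>
            (KLin.comp_smulModΓ φ _).symm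
          simp only [RingHom.id_apply]
          rw [h1, h1, hη, sH_map_smulMod] }
      (hb M)
  have hG : ∀ (I : X.Modules) [Injective I], Ac (Coh.structureModule X) ((sH F).obj I) := fun I _ p =>
    haveI : Injective (C := ModSite.Mod X.sheaf) I := ‹Injective I›
    H02CA.ModUnitAcyclic.subsingleton_ext_unit X.sheaf (S6150.result X.sheaf F I) p
  have hN : Ac (Coh.structureModule X) ((sH F).obj N) := fun p => subsingleton_of_forall_eq 0 fun x => by
    have hz : IsZero ((sH F).obj N) := h.of_iso (θ.app N)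
    rw [← Ext.comp_mk₀_id x, hz.eq_of_src (𝟙 _) 0, Ext.mk₀_zero, Ext.comp_zero]
  obtain ⟨e⟩ := nonempty_ext_one_linearEquiv (k := k) η hη hG N hN
  let d : ((sH F).rightDerived 1).obj N ≅ ((DCoh.sheafHom F).rightDerived 1).obj N :=
    { hom := (NatTrans.rightDerived θ.hom 1).app N
      inv := (NatTrans.rightDerived θ.inv 1).app N
      hom_inv_id := by
        rw [← NatTrans.comp_app, ← NatTrans.rightDerived_comp, θ.hom_inv_id, NatTrans.rightDerived_id, NatTrans.id_app]
      inv_hom_id := by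
        rw [← NatTrans.comp_app, ← NatTrans.rightDerived_comp, θ.inv_hom_id, NatTrans.rightDerived_id, NatTrans.id_app] }
  obtain ⟨e'⟩ := nonempty_hom_unit_linearEquiv k (((DCoh.sheafHom F).rightDerived 1).obj N)
  exact ⟨(e.trans (Linear.homCongr k (Iso.refl _) d)).trans e'⟩

/-- No morphisms from a module vanishing at the generic points into a torsion free one. -/
theorem isZero_sheafHom [IsIntegral X] [IsLocallyNoetherian X] (F N : X.Modules) [DCoh.HasSheafHom F]
    (hF : Subsingleton (F.presheaf.stalk (genericPoint X))) (hN : Coh.IsCoh N) (htN : TorSh.IsTorsionFree N) :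
    IsZero ((DCoh.sheafHom F).obj N) := by
  have key : ∀ {M : X.Modules} (ψ : ((DCoh.tensorBi (X := X)).obj F).obj M ⟶ N), ψ = 0 := by
    intro M ψ
    refine H26TF1.eq_zero_of_generic hN htN ψ fun η hη a => ?_
    obtain rfl : η = genericPoint X := (genericPoints_eq_singleton (α := X)).le hη
    obtain ⟨t, rfl⟩ := (H16Derived.KFlat.Stalk.stalkEquiv F M (genericPoint X)).surjective a
    rw [Subsingleton.elim t 0, map_zero, map_zero]
  refine (IsZero.iff_id_eq_zero _).2 (((DCoh.sheafHomAdj F).homEquiv _ _).symm.injective ?_)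
  rw [key (((DCoh.sheafHomAdj F).homEquiv _ _).symm (𝟙 _)), key (((DCoh.sheafHomAdj F).homEquiv _ _).symm 0)]

end Scheme

end Groth.Agent.H7ExtEdge
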