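import Groth.Agent.H4RSH.HomDual
import Groth.Agent.H10Inj.SheafExt.FirstVarRes
import Groth.Agent.H10Inj.SheafExt.RelExt
import Groth.Agent.H17.EdgeIso.CMDual

/-!
# Biduality for first Ext sheaves through two-term locally free resolutions
-/

set_option autoImplicit false
set_option linter.style.haveILetI false
set_option linter.unusedSectionVars false
set_option backward.isDefEq.respectTransparency false
set_option maxHeartbeats 1000000
set_option synthInstance.maxHeartbeats 400000

universe u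

open CategoryTheory CategoryTheory.Limits AlgebraicGeometry

namespace Groth.Agent.H7ExtEdge

open Groth.Agent.H10Inj.SheafExt Groth.Agent.H4RSH
open Groth.Agent.H16Derived.KFlat.Stalk

variable {X : Scheme.{u}}

/-- Precomposition with `u`, for the adjunctions `M ⊗ - ⊣ 𝓗om(M, -)`. -/
noncomputable def precomp {M M' : X.Modules} (u : M' ⟶ M) : homFunctor M ⟶ homFunctor M' :=
  conjugateEquiv (homAdj M) (homAdj M') ((DCoh.tensorBi (X := X)).map u)

theorem tLIso_natural {M M' : X.Modules} (u : M' ⟶ M) (N : X.Modules) :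
    ((DCoh.tensorBi (X := X)).map u).app N ≫ (H15Site.ModTensor.tLIso (O := X.sheaf) M).hom.app N =
      (H15Site.ModTensor.tLIso (O := X.sheaf) M').hom.app N ≫ ((DCoh.tensorBi (X := X)).obj N).map u := by
  show (H15Site.ModTensor.aSh X.sheaf).map _ ≫ (H15Site.ModTensor.aSh X.sheaf).map _ =
    (H15Site.ModTensor.aSh X.sheaf).map _ ≫ (H15Site.ModTensor.aSh X.sheaf).map _
  rw [← Functor.map_comp, ← Functor.map_comp]
  congr 1
  exact BraidedCategory.braiding_naturality_left _ _

theorem precomp_eq_homPre {M M' : X.Modules} (u : M' ⟶ M) : precomp u = homPre u := by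
  refine NatTrans.ext (funext fun N => ((homAdj M').homEquiv _ _).symm.injective ?_)
  have h1 := homEquiv_symm_conj (homAdj M) (homAdj M') ((DCoh.tensorBi (X := X)).map u)
    (𝟙 ((homFunctor M).obj N))
  have h2 := homEquiv_symm_conj (flipAdj M) (flipAdj M') ((DCoh.tensorBi (X := X)).flip.map u)
    (𝟙 ((homFunctor M).obj N))
  rw [Category.id_comp] at h1 h2
  have key : ∀ (P : X.Modules) (k : (homFunctor M).obj N ⟶ (homFunctor P).obj N),
      ((homAdj P).homEquiv _ _).symm k = (H15Site.ModTensor.tLIso (O := X.sheaf) P).hom.app _ ≫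
        ((flipAdj P).homEquiv _ _).symm k := by
    intro P k
    rw [Adjunction.homEquiv_counit, Adjunction.homEquiv_counit]
    have hn := (H15Site.ModTensor.tLIso (O := X.sheaf) P).hom.naturality k
    show _ = _ ≫ ((DCoh.tensorBi (X := X)).flip.obj P).map k ≫
      ((H15Site.ModTensor.tLIso (O := X.sheaf) P).inv.app _ ≫ (homAdj P).counit.app N)
    rw [← Category.assoc]
    erw [← hn]
    rw [Category.assoc]
    congr 1
    exact (Iso.hom_inv_id_app_assoc (H15Site.ModTensor.tLIso (O := X.sheaf) P) _ _).symm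
  refine h1.trans ?_
  rw [key M' ((homPre u).app N), key M (𝟙 _), ← Category.assoc, tLIso_natural, Category.assoc]
  exact congrArg (_ ≫ ·) h2.symm

/-- Precomposition on sections. -/
theorem precomp_app_apply {M M' : X.Modules} (u : M' ⟶ M) (N : X.Modules) (U : X.Opens)
    (g : Γ(RefHull.homSh M N, U)) (y : U) (v : M'.presheaf.stalk y.1) :
    (((precomp u).app N).app U g).1 y v = g.1 y (RefHull.stalkMapₗ u y.1 v) := by
  have h1 := homEquiv_symm_conj (homAdj M) (homAdj M') ((DCoh.tensorBi (X := X)).map u)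
    (𝟙 ((homFunctor M).obj N))
  rw [Category.id_comp, Equiv.symm_apply_eq] at h1
  have h2 : (precomp u).app N = H10Coh.SheafHom.curry
      (((DCoh.tensorBi (X := X)).map u).app (RefHull.homSh M N) ≫
        H10Coh.SheafHom.uncurry (𝟙 (RefHull.homSh M N))) := by
    refine h1.trans ?_
    simp only [homAdj, Adjunction.adjunctionOfEquivRight, Adjunction.mkOfHomEquiv_homEquiv]
    rfl
  rw [h2]
  obtain ⟨V, hV, m, rfl⟩ := M'.presheaf.exists_germ_eq v
  rw [← M'.presheaf.germ_res_apply (homOfLE (inf_le_left : V ⊓ U ≤ V)) y.1 ⟨hV, y.2⟩]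
  generalize M'.presheaf.map (homOfLE (inf_le_left : V ⊓ U ≤ V)).op m = m'
  show RefHull.stalkMapₗ (((DCoh.tensorBi (X := X)).map u).app (RefHull.homSh M N) ≫
      H10Coh.SheafHom.uncurry (𝟙 (RefHull.homSh M N))) y.1
    (pair M' (RefHull.homSh M N) y.1 _ ((RefHull.homSh M N).presheaf.germ U y.1 y.2 g)) = _
  rw [← (RefHull.homSh M N).presheaf.germ_res_apply (homOfLE (inf_le_right : V ⊓ U ≤ U)) y.1 ⟨hV, y.2⟩,
    pair_germ, RefHull.stalkMapₗ_germ, RefHull.stalkMapₗ_germ, Scheme.Modules.Hom.comp_app,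
    ConcreteCategory.comp_apply, HomDual.map_tensorSect_left, H10Coh.SheafHom.uncurry_tensorSect]
  exact H29Ref.germ_toLin _ _ (⟨y.1, ⟨hV, y.2⟩⟩ : ↥(V ⊓ U))

/-- Biduality is natural. -/
theorem bidual_natural {E E' : X.Modules} (u : E' ⟶ E) (G : X.Modules) :
    u ≫ HomDual.bidual E G = HomDual.bidual E' G ≫ (precomp ((precomp u).app G)).app G := by
  refine Scheme.Modules.hom_ext _ _ fun U => ConcreteCategory.hom_ext _ _ fun s => ?_
  refine Subtype.ext (funext fun y => LinearMap.ext fun θ => ?_)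
  rw [Scheme.Modules.Hom.comp_app, Scheme.Modules.Hom.comp_app, ConcreteCategory.comp_apply,
    ConcreteCategory.comp_apply]
  refine Eq.trans ?_ (precomp_app_apply ((precomp u).app G) G U _ y θ).symm
  rw [HomDual.bidual_app_apply, HomDual.bidual_app_apply, HomDual.evAt_apply]
  erw [HomDual.evAt_apply]
  obtain ⟨W, hW, g, rfl⟩ := (RefHull.homSh E G).presheaf.exists_germ_eq θ
  erw [RefHull.stalkMapₗ_germ, RefHull.evalStalk_germ, HomDual.evAt_apply, RefHull.evalStalk_germ, precomp_app_apply,
    RefHull.stalkMapₗ_germ]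

/-- Finite free modules are reflexive with respect to a free module of rank one. -/
theorem bijective_applyₗ_of_rank_one {R : Type u} [CommRing R] {V W : Type u} [AddCommGroup V] [Module R V]
    [AddCommGroup W] [Module R W] [Module.Free R V] [Module.Finite R V] (e : W ≃ₗ[R] R) :
    Function.Bijective fun v : V => (LinearMap.applyₗ v : (V →ₗ[R] W) →ₗ[R] W) := by
  let E := (Module.evalEquiv R V).trans
    (LinearEquiv.arrowCongr (LinearEquiv.arrowCongr (LinearEquiv.refl R V) e.symm) e.symm)
  refine (congrArg Function.Bijective (funext fun v => ?_)).mp E.bijective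
  ext l
  simp [E, LinearEquiv.arrowCongr_apply]

theorem isIso_bidual_of_flf [IsLocallyNoetherian X] {E ω : X.Modules} (hE : FlatMod.IsFinLocFree E)
    (hω : FlatMod.IsFinLocFree ω) (h1 : ∀ x, Nonempty (ω.presheaf.stalk x ≃ₗ[X.presheaf.stalk x] X.presheaf.stalk x)) :
    IsIso (HomDual.bidual E ω) := by
  refine (H29Ref.isIso_iff_bijective_stalk _).2 fun x => ?_
  have hH : FlatMod.IsFinLocFree (RefHull.homSh E ω) := H10Coh.SheafHom.isFinLocFree_homSh hE hω
  refine HomDual.bijective_stalk_bidual E ω x (H8Props.FinLocFree.isFP_of_isFinLocFree E hE)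
    (H8Props.FinLocFree.isFP_of_isFinLocFree _ hH) ?_
  obtain ⟨n, ⟨b⟩⟩ := H22Alg.KExists.stalk_free hE x
  haveI : Module.Free (X.presheaf.stalk x) (E.presheaf.stalk x) := Module.Free.of_basis b
  haveI : Module.Finite (X.presheaf.stalk x) (E.presheaf.stalk x) := Module.Finite.of_basis b
  exact bijective_applyₗ_of_rank_one (h1 x).some

variable [HasInjectiveResolutions X.Modules]

theorem isZero_ext_of_flf [IsLocallyNoetherian X] {E : X.Modules} (hE : FlatMod.IsFinLocFree E)
    (N : X.Modules) (i : ℕ) : IsZero (((homFunctor E).rightDerived (i + 1)).obj N) := by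
  haveI : ModSite.HasSheafHom (O := X.sheaf) E := H17.EdgeIso.hasSheafHom E
  haveI : HasInjectiveResolutions (ModSite.Mod X.sheaf) := ‹HasInjectiveResolutions X.Modules›
  exact (extShIso E (i + 1) N).isZero_iff.1 (H17.EdgeIso.isZero_extSh_of_flf hE N i)

/-- The first Ext sheaf as a cokernel. -/
theorem nonempty_cokernel_iso (S : ShortComplex X.Modules) (hS : S.ShortExact) (G : X.Modules)
    (h : IsZero (((homFunctor S.X₂).rightDerived 1).obj G)) :
    Nonempty (cokernel ((precomp S.f).app G) ≅ ((homFunctor S.X₃).rightDerived 1).obj G) := by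
  obtain ⟨-, -, δ, hδ⟩ := rightDerived_les (homPre S.g) (homPre S.f)
    (NatTrans.ext (funext fun I => conjG_comp_conjF_app S (flipAdj S.X₁) (flipAdj S.X₂) (flipAdj S.X₃) I))
    (fun I _ => shortExact_homPre S hS I) G
  obtain ⟨w₁, e₁⟩ := (hδ 0).1
  obtain ⟨w₂, e₂⟩ := (hδ 0).2
  haveI : Epi (δ 0) := e₂.epi_f (h.eq_of_tgt _ _)
  refine ⟨?_ ≪≫ IsColimit.coconePointUniqueUpToIso (cokernelIsCokernel _) e₁.gIsCokernel⟩
  exact cokernel.mapIso _ _ (asIso ((homFunctor S.X₂).toRightDerivedZero.app G))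
    (asIso ((homFunctor S.X₁).toRightDerivedZero.app G))
    (by rw [precomp_eq_homPre]; exact toRightDerivedZero_natTrans (homPre S.f) G)

/-- The transposed presentation is injective when there are no maps out of the cokernel. -/
theorem mono_precomp (S : ShortComplex X.Modules) (hS : S.ShortExact) (ω : X.Modules)
    (h0 : IsZero ((homFunctor S.X₃).obj ω)) : Mono ((precomp S.f).app ω) := by
  let p := (precomp S.f).app ω
  obtain ⟨hm, hex, -⟩ := rightDerived_les (homPre S.g) (homPre S.f)
    (NatTrans.ext (funext fun I => conjG_comp_conjF_app S (flipAdj S.X₁) (flipAdj S.X₂) (flipAdj S.X₃) I))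
    (fun I _ => shortExact_homPre S hS I) ω
  obtain ⟨w, e⟩ := hex 0
  have hz : IsZero (((homFunctor S.X₃).rightDerived 0).obj ω) :=
    h0.of_iso (asIso ((homFunctor S.X₃).toRightDerivedZero.app ω)).symm
  haveI : Mono ((NatTrans.rightDerived (homPre S.f) 0).app ω) := e.mono_g (hz.eq_of_src _ _)
  have ht := toRightDerivedZero_natTrans (homPre S.f) ω
  rw [← precomp_eq_homPre] at ht
  haveI : Mono (p ≫ (homFunctor S.X₁).toRightDerivedZero.app ω) := ht ▸ by
    rw [precomp_eq_homPre]; infer_instance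
  exact mono_of_mono p ((homFunctor S.X₁).toRightDerivedZero.app ω)

/-- `Ext¹(Ext¹(F, ω), ω) = F` for a module `F` with a two-term locally free resolution and no maps into `ω`. -/
theorem nonempty_bidual_iso [IsLocallyNoetherian X] (S : ShortComplex X.Modules) (hS : S.ShortExact)
    (h₁ : FlatMod.IsFinLocFree S.X₁) (h₂ : FlatMod.IsFinLocFree S.X₂) {ω : X.Modules}
    (hω : FlatMod.IsFinLocFree ω) (hω1 : ∀ x, Nonempty (ω.presheaf.stalk x ≃ₗ[X.presheaf.stalk x] X.presheaf.stalk x))
    (h0 : IsZero ((homFunctor S.X₃).obj ω)) :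
    ∃ A : X.Modules, Nonempty (A ≅ ((homFunctor S.X₃).rightDerived 1).obj ω) ∧
      Nonempty (((homFunctor A).rightDerived 1).obj ω ≅ S.X₃) := by
  let p := (precomp S.f).app ω
  haveI : Mono p := mono_precomp S hS ω h0
  let T := ShortComplex.mk p (cokernel.π p) (cokernel.condition p)
  have hT : T.ShortExact := { exact := ShortComplex.exact_cokernel p }
  refine ⟨cokernel p, nonempty_cokernel_iso S hS ω (isZero_ext_of_flf h₂ ω 0), ?_⟩
  have hX2 : FlatMod.IsFinLocFree T.X₂ := H10Coh.SheafHom.isFinLocFree_homSh h₁ hω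
  obtain ⟨e⟩ := nonempty_cokernel_iso T hT ω (isZero_ext_of_flf hX2 ω 0)
  haveI := isIso_bidual_of_flf h₁ hω hω1
  haveI := isIso_bidual_of_flf h₂ hω hω1
  haveI := hS.epi_g
  let e' : cokernel S.f ≅ cokernel ((precomp T.f).app ω) :=
    cokernel.mapIso S.f _ (asIso (HomDual.bidual S.X₁ ω)) (asIso (HomDual.bidual S.X₂ ω))
      (bidual_natural S.f ω)
  exact ⟨e.symm ≪≫ e'.symm ≪≫ IsColimit.coconePointUniqueUpToIso (cokernelIsCokernel _) hS.exact.gIsCokernel⟩

end Groth.Agent.H7ExtEdge
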