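import Groth.Agent.H7ExtEdge.Good
import Groth.Agent.H28Surf.Twist

/-!
# Global generation of the double base-point-free dual
-/

set_option autoImplicit false
set_option linter.style.haveILetI false
set_option linter.unusedSectionVars false
set_option backward.isDefEq.respectTransparency false
set_option maxHeartbeats 1000000
set_option synthInstance.maxHeartbeats 400000

universe u

open CategoryTheory CategoryTheory.Limits AlgebraicGeometry Opposite

namespace Groth.Agent.H7ExtEdge

open Groth.Agent.H10Inj.SheafExt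

variable {k : Type u} [Field k] {S : Scheme.{u}} [S.Over (Spec (CommRingCat.of k))] [IsIntegral S]
  [Smooth (S ↘ Spec (CommRingCat.of k))] [IsProper (S ↘ Spec (CommRingCat.of k))]

theorem surf_of_smooth (hdim : topologicalKrullDim S = 2) {n : ℕ} (ι : S ⟶ CohB1.ProjSpace n k)
    [IsClosedImmersion ι] : Surf S := by
  let σ := S ↘ Spec (CommRingCat.of k)
  have hd : ∀ x : S, Order.coheight x ≤ ((2 : ℕ) : ℕ∞) ∧ (¬ IsClosed ({x} : Set S) →
      Order.coheight x ≤ ((1 : ℕ) : ℕ∞)) := by
    letI : Preorder S := specializationPreorder S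
    have hk : Order.krullDim S = topologicalKrullDim S :=
      (H17.topologicalKrullDim_eq_krullDim_specialization (α := S)).symm
    have h2 : ∀ x : S, Order.coheight x ≤ ((2 : ℕ) : ℕ∞) := fun x =>
      WithBot.coe_le_coe.1 ((Order.coheight_le_krullDim x).trans (le_of_eq (hk.trans hdim)))
    refine fun x => ⟨h2 x, fun hx => ?_⟩
    obtain ⟨y, hy, hne⟩ : ∃ y ∈ closure ({x} : Set S), y ≠ x := by
      by_contra h
      push Not at h
      exact hx (closure_eq_iff_isClosed.1 (subset_antisymm h subset_closure))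
    have hle : y ≤ x := specializes_iff_mem_closure.2 hy
    have hlt : y < x := lt_of_le_not_ge hle fun h => hne ((Specializes.antisymm hle h).eq).symm
    have h := (Order.coheight_add_one_le hlt).trans (h2 y)
    exact (ENat.add_le_add_iff_right ENat.one_ne_top).1 h
  refine ⟨fun x => H19Grp.isRegularLocalRing_stalk_of_smooth (k := k) σ x, fun x => ?_, fun x hx => ?_,
    fun F hF => H27KZero.exists_epi_finLocFree
      (H11Ample.isAmple_pullback_of_isAffineHom ι (H11Ample.isAmple_twistProjSpace n k)) F hF⟩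
  · rw [ringKrullDim_stalk_eq_coheight]
    exact WithBot.coe_le_coe.2 (hd x).1
  · rw [ringKrullDim_stalk_eq_coheight]
    exact WithBot.coe_le_coe.2 ((hd x).2 hx)

theorem injective_HHlin_zero {M N : S.Modules} (f : M ⟶ N) [Mono f] : Function.Injective (Canon.HHlin k f 0) := by
  have hS : (ShortComplex.mk f (cokernel.π f) (cokernel.condition f)).ShortExact :=
    { exact := ShortComplex.exact_cokernel f }
  exact H28Surf.hhlin_injective (X := S) (S := ShortComplex.mk f (cokernel.π f) (cokernel.condition f)) k hS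

variable [IsLocallyNoetherian S] [HasInjectiveResolutions S.Modules] {ω : S.Modules}

theorem finrank_dual_eq {n : ℕ} (ι : S ⟶ CohB1.ProjSpace n k) [IsClosedImmersion ι]
    (hι : ι ≫ CohB1.ProjSpace.toSpec n k = S ↘ Spec (CommRingCat.of k))
    [SmoothOfRelativeDimension 2 (S ↘ Spec (CommRingCat.of k))]
    (hω : Canon.IsTopDiff (S ↘ Spec (CommRingCat.of k)) 2 ω) (hinv : PicF.IsInvertible ω)
    {F : S.Modules} (hF : Good F) :
    Module.finrank k (Coh.HH S (((homFunctor F).rightDerived 1).obj ω) 0) =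
      Module.finrank k (Coh.HH S F 1) := by
  haveI : IsGrothendieckAbelian.{u} S.Modules := H10Coh.isGrothendieckAbelian_sheafOfModules _
  haveI : HasExt.{u} S.Modules := hasExt_of_enoughInjectives _
  haveI : DCoh.HasSheafHom F := H10Coh.SheafHom.hasSheafHom F
  let ρ := (DCoh.sheafHomAdj F).rightAdjointUniq (homAdj F)
  haveI : (DCoh.sheafHom F).Additive := Functor.additive_of_iso ρ.symm
  obtain ⟨e⟩ := nonempty_ext_one_linearEquiv_sections k F ω
    ((hF.isZero_hom hinv).of_iso (ρ.app ω))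
  obtain ⟨d⟩ := H17.FLI.nonempty_ext_linearEquiv_dual ι hι hω hF.coh (i := 1) (by norm_num)
  haveI := H10Coh.finite_HH_proper k S F hF.coh 1
  rw [← (H29RR.hhIso (k := k) ((H02CA.ModLocalise.rdMapIso ρ 1).app ω) 0).finrank_eq, ← e.finrank_eq,
    d.finrank_eq, Subspace.dual_finrank_eq]

theorem isGloballyGenerated_double (k : Type u) [Field k]
    (S : Scheme.{u}) [S.Over (Spec (CommRingCat.of k))] [IsIntegral S]
    [Smooth (S ↘ Spec (CommRingCat.of k))] (hdim : topologicalKrullDim S = 2)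
    [IsProper (S ↘ Spec (CommRingCat.of k))]
    (hproj : ∃ (n : ℕ) (ι : S ⟶ CohB1.ProjSpace n k), IsClosedImmersion ι ∧
      ι ≫ CohB1.ProjSpace.toSpec n k = S ↘ Spec (CommRingCat.of k))
    [HasInjectiveResolutions S.Modules] [IsAlgClosed k] [CharZero k]
    (ω : S.Modules) (hω : Canon.IsTopDiff (S ↘ Spec (CommRingCat.of k)) 2 ω)
    (C : Scheme.{u}) (j : C ⟶ S) [IsClosedImmersion j] [IsIntegral C]
    (hC : topologicalKrullDim C = 1)
    (M : C.Modules) (hM : Coh.IsCoh M) (hMtf : TorSh.IsTorsionFree M)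
    (A' : S.Modules) (ι₁ : A' ⟶ ((Coh.push j).obj M)) [Mono ι₁] (hA'c : Coh.IsCoh A')
    (hA'g : Curv2.IsGloballyGenerated A')
    [DCoh.HasSheafHom A'] [(DCoh.sheafHom A').Additive]
    (B : S.Modules) (ι₂ : B ⟶ ((DCoh.sheafHom A').rightDerived 1).obj ω) [Mono ι₂] (hBc : Coh.IsCoh B)
    (hBg : Curv2.IsGloballyGenerated B) (hB0 : Function.Surjective (Canon.HHlin k ι₂ 0))
    [DCoh.HasSheafHom B] [(DCoh.sheafHom B).Additive]
    [DCoh.HasSheafHom (((DCoh.sheafHom B).rightDerived 1).obj ω)] [(DCoh.sheafHom (((DCoh.sheafHom B).rightDerived 1).obj ω)).Additive] :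
    Curv2.IsGloballyGenerated (((DCoh.sheafHom B).rightDerived 1).obj ω) ∧
      Curv2.IsGloballyGenerated (((DCoh.sheafHom (((DCoh.sheafHom B).rightDerived 1).obj ω)).rightDerived 1).obj ω) := by
  haveI : IsLocallyNoetherian S := LocallyOfFiniteType.isLocallyNoetherian (S ↘ Spec (CommRingCat.of k))
  haveI : SmoothOfRelativeDimension 2 (S ↘ Spec (CommRingCat.of k)) :=
    H27CurveDiv.smoothOfRelativeDimension_of_dim _ 2 (by exact_mod_cast hdim)
  haveI : IsLocallyNoetherian C := LocallyOfFiniteType.isLocallyNoetherian (j ≫ S ↘ Spec (CommRingCat.of k))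
  have hinv := H26Canon.isInvertible_of_isTopDiff (S ↘ Spec (CommRingCat.of k)) 2 hω
  obtain ⟨n, ι, hι, hιs⟩ := hproj
  have hX := surf_of_smooth (k := k) hdim ι
  have hgen : genericPoint S ∉ Set.range j.base := by
    intro hη
    have hu : Set.range j.base = Set.univ := by
      refine Set.eq_univ_of_univ_subset ?_
      rw [← (genericPoint_spec S)]
      exact closure_minimal (Set.singleton_subset_iff.2 hη) j.isClosedEmbedding.isClosed_range
    have h := IsHomeomorph.topologicalKrullDim_eq j.base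
      (isHomeomorph_iff_isEmbedding_surjective.2 ⟨j.isClosedEmbedding.isEmbedding, Set.range_eq_univ.1 hu⟩)
    rw [hC, hdim] at h
    exact absurd h (by norm_num)
  have hcoh : Coh.IsCoh ((Coh.push j).obj M) := H24FSch.isCoh_pushforward_of_isClosedImmersion j hM
  have hM' : Good ((Coh.push j).obj M) := by
    obtain ⟨E, p, hE, hp⟩ := hX.rp _ hcoh
    exact ⟨hcoh, H17.PushColim.subsingleton_stalk_push j j.isClosedEmbedding M hgen,
      E, p, hE, hp, S15848.result k S hdim C j hC M hM hMtf E hE p⟩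
  have gA := hM'.sub hX ι₁ hA'c
  obtain ⟨gA', ⟨bA⟩⟩ := gA.ext hinv
  let ρ : ∀ (F : S.Modules) [DCoh.HasSheafHom F], DCoh.sheafHom F ≅ homFunctor F :=
    fun F _ => (DCoh.sheafHomAdj F).rightAdjointUniq (homAdj F)
  let eA := (H02CA.ModLocalise.rdMapIso (ρ A') 1).app ω
  let ι₂' : B ⟶ ((homFunctor A').rightDerived 1).obj ω := ι₂ ≫ eA.hom
  haveI : Mono ι₂' := mono_comp _ _
  have gB := gA'.sub hX ι₂' hBc
  obtain ⟨gB', ⟨bB⟩⟩ := gB.ext hinv
  let eB := (H02CA.ModLocalise.rdMapIso (ρ B) 1).app ω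
  refine ⟨H11Ample.isGloballyGenerated_of_iso eB.symm ?_, H11Ample.isGloballyGenerated_of_iso
    (bB.symm ≪≫ ((H02CA.ModLocalise.rdMapIso (ρ _ ≪≫ homCongrIso eB) 1).app ω).symm) hBg⟩
  -- the map induced by the inclusion
  let T := ShortComplex.mk ι₂' (cokernel.π ι₂') (cokernel.condition ι₂')
  have hT : T.ShortExact := { exact := ShortComplex.exact_cokernel ι₂' }
  obtain ⟨-, -, δ, hδ⟩ := rightDerived_les (homPre T.g) (homPre T.f)
    (NatTrans.ext (funext fun I => conjG_comp_conjF_app T (flipAdj T.X₁) (flipAdj T.X₂) (flipAdj T.X₃) I))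
    (fun I _ => shortExact_homPre T hT I) ω
  obtain ⟨w, e⟩ := (hδ 1).1
  let a := bA.inv ≫ (NatTrans.rightDerived (homPre T.f) 1).app ω
  refine isGloballyGenerated_of_h1 k hdim a hA'c gB'.coh gA.gen hA'g (fun x hx => ?_) ?_
  · haveI := e.mono_cokernelDesc
    let d : cokernel a ≅ cokernel ((NatTrans.rightDerived (homPre T.f) 1).app ω) := cokernelEpiComp _ _
    exact H25Par.subsingleton_stalk_of_mono (d.hom ≫ cokernel.desc _ (δ 1) w)
      (subsingleton_stalk_ext_two hX hinv (H10Coh.isCoh_cokernel ι₂' hBc.1 gA'.coh) x hx)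
  · have h2 : Function.Injective (Canon.HHlin k ι₂ 0) := injective_HHlin_zero ι₂
    rw [← finrank_dual_eq ι hιs hω hinv gA, ← finrank_dual_eq ι hιs hω hinv gB',
      ← (H29RR.hhIso (k := k) eA 0).finrank_eq, ← (LinearEquiv.ofBijective _ ⟨h2, hB0⟩).finrank_eq]
    exact (H29RR.hhIso (k := k) bB 0).finrank_eq.symm

end Groth.Agent.H7ExtEdge
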