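import Groth.Agent.H7ExtEdge.Basic
import Groth.Agent.H17.FLI.SmoothDual
import Groth.Agent.H26Canon.Basic
import Groth.Agent.H25Par.CurveLocFree
import Groth.Agent.H27CurveDiv.RelDim
import Groth.Agent.H16Derived.ProjFormula.ClosedImm
import Groth.Agent.H17.PushColim
import Groth.Agent.H24FSch.ModSysPush
import Groth.Prelude

/-!
# `Ext¹(j_* M, ω)` on a surface for a sheaf on a curve
-/

set_option autoImplicit false
set_option linter.style.haveILetI false
set_option backward.isDefEq.respectTransparency false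

universe u

open CategoryTheory CategoryTheory.Limits AlgebraicGeometry

namespace Groth.Agent.H7ExtEdge

theorem main (k : Type u) [Field k] [IsAlgClosed k]
    (S : Scheme.{u}) [S.Over (Spec (CommRingCat.of k))] [IsIntegral S]
    [Smooth (S ↘ Spec (CommRingCat.of k))] (hdim : topologicalKrullDim S = 2)
    (hproj : ∃ (n : ℕ) (ι : S ⟶ CohB1.ProjSpace n k), IsClosedImmersion ι ∧
      ι ≫ CohB1.ProjSpace.toSpec n k = S ↘ Spec (CommRingCat.of k))
    [IsProper (S ↘ Spec (CommRingCat.of k))]
    [HasInjectiveResolutions S.Modules] [HasExt.{u} S.Modules]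
    (ω : S.Modules) (hω : Canon.IsTopDiff (S ↘ Spec (CommRingCat.of k)) 2 ω)
    (C : Scheme.{u}) (j : C ⟶ S) [IsClosedImmersion j] (hC : topologicalKrullDim C = 1)
    (M : C.Modules) (hM : Coh.IsCoh M)
    [DCoh.HasSheafHom ((Coh.push j).obj M)] [(DCoh.sheafHom ((Coh.push j).obj M)).Additive] :
    Nonempty (Abelian.Ext ((Coh.push j).obj M) ω 1 ≃ₗ[k]
        Coh.HH S (((DCoh.sheafHom ((Coh.push j).obj M)).rightDerived 1).obj ω) 0) ∧
      Nonempty (Abelian.Ext ((Coh.push j).obj M) ω 1 ≃ₗ[k]
        Module.Dual k (Coh.HH S ((Coh.push j).obj M) 1)) := by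
  haveI : IsLocallyNoetherian S := LocallyOfFiniteType.isLocallyNoetherian (S ↘ Spec (CommRingCat.of k))
  haveI : SmoothOfRelativeDimension 2 (S ↘ Spec (CommRingCat.of k)) :=
    H27CurveDiv.smoothOfRelativeDimension_of_dim _ 2 (by exact_mod_cast hdim)
  have hinv := H26Canon.isInvertible_of_isTopDiff (S ↘ Spec (CommRingCat.of k)) 2 hω
  have hgen : genericPoint S ∉ Set.range j.base := by
    intro hη
    have hu : Set.range j.base = Set.univ := by
      refine Set.eq_univ_of_univ_subset ?_
      rw [← (genericPoint_spec S)]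
      exact closure_minimal (Set.singleton_subset_iff.2 hη) j.isClosedEmbedding.isClosed_range
    have h := IsHomeomorph.topologicalKrullDim_eq j.base
      (isHomeomorph_iff_isEmbedding_surjective.2 ⟨j.isClosedEmbedding.isEmbedding, Set.range_eq_univ.1 hu⟩)
    rw [hC, hdim] at h
    exact absurd h (by norm_num)
  have hsub : Subsingleton (((Coh.push j).obj M).presheaf.stalk (genericPoint S)) :=
    H17.PushColim.subsingleton_stalk_push j j.isClosedEmbedding M hgen
  have hcoh : Coh.IsCoh ((Coh.push j).obj M) := H24FSch.isCoh_pushforward_of_isClosedImmersion j hM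
  refine ⟨nonempty_ext_one_linearEquiv_sections k _ ω (isZero_sheafHom _ ω hsub
    (H11Ample.isCoh_of_isInvertible hinv)
    (H25Par.isTorsionFree_of_locFree (H22Alg.KModel.finLocFree_invertible hinv))), ?_⟩
  obtain ⟨n, ι, hι, hιs⟩ := hproj
  exact H17.FLI.nonempty_ext_linearEquiv_dual ι hιs hω hcoh (by norm_num)

end Groth.Agent.H7ExtEdge
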