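import Groth.Agent.H7ExtEdge.Bidual
import Groth.Agent.H7ExtEdge.Main
import Groth.Agent.S15848
import Groth.Agent.S10945
import Groth.Agent.H27KZero.AmpleRes
import Groth.Agent.H11Ample.Converse
import Groth.Agent.H02CA.SurfStab.Main
import Groth.Agent.H10Coh.RelRes.Pd
import Groth.Agent.H28RR.LazMuk
import Groth.Agent.H28RR.LazMukDeg
import Groth.Agent.H10Coh.CurveBdd.Regular
import Groth.Agent.H25Par.FibKer
import Groth.Agent.H06DefAmple.Basic
import Groth.Agent.H10Inj.GGOn
import Groth.Agent.H28NT.Connectedness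
import Groth.Agent.H7Lim.ModLocFree

/-!
# Torsion modules of projective dimension one on a regular surface and their first Ext duals
-/

set_option autoImplicit false
set_option linter.style.haveILetI false
set_option linter.unusedSectionVars false
set_option backward.isDefEq.respectTransparency false
set_option maxHeartbeats 1000000
set_option synthInstance.maxHeartbeats 400000

universe u

open CategoryTheory CategoryTheory.Limits AlgebraicGeometry Opposite

namespace Groth.Agent.H7ExtEdge

open Groth.Agent.H10Inj.SheafExt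

variable {X : Scheme.{u}}

/-- Torsion coherent modules with a two-term locally free resolution. -/
structure Good (F : X.Modules) [IrreducibleSpace X] : Prop where
  coh : Coh.IsCoh F
  gen : Subsingleton (F.presheaf.stalk (genericPoint X))
  res : ∃ (E : X.Modules) (p : E ⟶ F), FlatMod.IsFinLocFree E ∧ Epi p ∧ FlatMod.IsFinLocFree (kernel p)

/-- The local conditions on a regular surface, together with the resolution property. -/
structure Surf (X : Scheme.{u}) : Prop where
  reg : ∀ x : X, IsRegularLocalRing (X.presheaf.stalk x)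
  dim : ∀ x : X, ringKrullDim (X.presheaf.stalk x) ≤ ((2 : ℕ) : WithBot ℕ∞)
  one : ∀ x : X, ¬ IsClosed ({x} : Set X) → ringKrullDim (X.presheaf.stalk x) ≤ ((1 : ℕ) : WithBot ℕ∞)
  rp : ∀ F : X.Modules, Coh.IsCoh F → ∃ (E : X.Modules) (p : E ⟶ F), FlatMod.IsFinLocFree E ∧ Epi p

variable [IsIntegral X] [IsLocallyNoetherian X] {F : X.Modules}

theorem Good.pd (hF : Good F) (x : X) :
    HasProjectiveDimensionLT (ModuleCat.of (X.presheaf.stalk x) (F.presheaf.stalk x)) 2 := by
  obtain ⟨E, p, hE, hp, hK⟩ := hF.res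
  have hS : (ShortComplex.mk (kernel.ι p) p (kernel.condition p)).ShortExact :=
    { exact := ShortComplex.exact_of_f_is_kernel _ (kernelIsKernel p) }
  obtain ⟨T, hT, h₁, h₂, h₃⟩ := H22Alg.KClOps.shortExact_stalk hS x
  have e1 : HasProjectiveDimensionLT T.X₁ 1 := h₁ ▸ H22Alg.KClOps.pd_vb hK x
  have e2 : HasProjectiveDimensionLT T.X₂ 1 := h₂ ▸ H22Alg.KClOps.pd_vb hE x
  haveI := e2
  have e2' : HasProjectiveDimensionLT T.X₂ 2 := hasProjectiveDimensionLT_of_ge _ 1 2 (by omega)
  exact h₃ ▸ hT.hasProjectiveDimensionLT_X₃ 1 e1 e2'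

/-- Coherent submodules inherit the resolution. -/
theorem Good.sub (hX : Surf X) (hF : Good F) {B : X.Modules} (ι : B ⟶ F) [Mono ι] (hB : Coh.IsCoh B) :
    Good B := by
  refine ⟨hB, H25Par.subsingleton_stalk_of_mono ι hF.gen, ?_⟩
  obtain ⟨E, p, hE, hp⟩ := hX.rp B hB
  refine ⟨E, p, hE, hp, ?_⟩
  have hEc := H16Derived.KFlat.Stalk.isCoh_of_isFinLocFree hE
  refine H29Ref.isFinLocFree_of_free_stalk _ (H10Coh.isCoh_kernel p hEc hB.1) fun x => ?_
  haveI := hX.reg x
  have hS : (ShortComplex.mk ι (cokernel.π ι) (cokernel.condition ι)).ShortExact :=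
    { exact := ShortComplex.exact_cokernel ι }
  obtain ⟨T, hT, h₁, h₂, h₃⟩ := H22Alg.KClOps.shortExact_stalk hS x
  have b2 : HasProjectiveDimensionLT T.X₂ 2 := h₂ ▸ hF.pd x
  have b3 : HasProjectiveDimensionLT T.X₃ 3 := H10Coh.RelRes.pd_le_of_regular _ (hX.dim x) _
  have b1 : HasProjectiveDimensionLT (ModuleCat.of (X.presheaf.stalk x) (B.presheaf.stalk x)) 2 :=
    h₁ ▸ hT.hasProjectiveDimensionLT_X₁ 2 b2 b3
  have hS' : (ShortComplex.mk (kernel.ι p) p (kernel.condition p)).ShortExact :=
    { exact := ShortComplex.exact_of_f_is_kernel _ (kernelIsKernel p) }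
  obtain ⟨U, hU, u₁, u₂, u₃⟩ := H22Alg.KClOps.shortExact_stalk hS' x
  have c2 : HasProjectiveDimensionLT U.X₂ 1 := u₂ ▸ H22Alg.KClOps.pd_vb hE x
  have c3 : HasProjectiveDimensionLT U.X₃ 2 := u₃ ▸ b1
  have c1 : HasProjectiveDimensionLE
      (ModuleCat.of (X.presheaf.stalk x) ((kernel p).presheaf.stalk x)) 0 :=
    u₁ ▸ hU.hasProjectiveDimensionLT_X₁ 1 c2 c3
  haveI : Module.Projective (X.presheaf.stalk x) ((kernel p).presheaf.stalk x) :=
    (IsProjective.iff_projective _).2 ((projective_iff_hasProjectiveDimensionLE_zero _).2 c1)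
  haveI := H29Ref.finite_stalk _ (H10Coh.isCoh_kernel p hEc hB.1).2 x
  exact Module.free_of_flat_of_isLocalRing

variable [HasInjectiveResolutions X.Modules] {ω : X.Modules}

theorem Good.isZero_hom (hF : Good F) (hω : PicF.IsInvertible ω) : IsZero ((homFunctor F).obj ω) := by
  haveI : DCoh.HasSheafHom F := H10Coh.SheafHom.hasSheafHom F
  exact (isZero_sheafHom F ω hF.gen (H11Ample.isCoh_of_isInvertible hω)
    (H25Par.isTorsionFree_of_locFree (H22Alg.KModel.finLocFree_invertible hω))).of_iso
      (((DCoh.sheafHomAdj F).rightAdjointUniq (homAdj F)).app ω).symm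

/-- `F ↦ Ext¹(F, ω)` preserves `Good`, and is an involution on it. -/
theorem Good.ext (hF : Good F) (hω : PicF.IsInvertible ω) :
    Good (((homFunctor F).rightDerived 1).obj ω) ∧
      Nonempty (((homFunctor (((homFunctor F).rightDerived 1).obj ω)).rightDerived 1).obj ω ≅ F) := by
  obtain ⟨E, p, hE, hp, hK⟩ := hF.res
  have hωf := H22Alg.KModel.finLocFree_invertible hω
  let S := ShortComplex.mk (kernel.ι p) p (kernel.condition p)
  have hS : S.ShortExact := { exact := ShortComplex.exact_of_f_is_kernel _ (kernelIsKernel p) }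
  obtain ⟨A, ⟨a⟩, ⟨b⟩⟩ := nonempty_bidual_iso S hS hK hE hωf
    (fun x => ⟨(H02CA.SurfStab.stalkFree_one hω x).some.equivFun.trans (LinearEquiv.funUnique (Fin 1) _ _)⟩)
    (hF.isZero_hom hω)
  refine ⟨?_, ⟨(H02CA.ModLocalise.rdMapIso (homCongrIso a.symm) 1).app ω ≪≫ b⟩⟩
  -- the module is the cokernel of the transposed presentation
  let q := (precomp S.f).app ω
  have h₁ := H10Coh.SheafHom.isFinLocFree_homSh hE hωf
  have h₂ := H10Coh.SheafHom.isFinLocFree_homSh hK hωf
  obtain ⟨e⟩ := nonempty_cokernel_iso S hS ω (isZero_ext_of_flf hE ω 0)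
  haveI : Mono q := mono_precomp S hS ω (hF.isZero_hom hω)
  refine ⟨H10Coh.isCoh_of_iso e (H10Coh.isCoh_cokernel q (H16Derived.KFlat.Stalk.isCoh_of_isFinLocFree h₁).1
    (H16Derived.KFlat.Stalk.isCoh_of_isFinLocFree h₂)), ?_, _, cokernel.π q ≫ e.hom, h₂, epi_comp _ _, ?_⟩
  · refine (H17.EdgeIso.subsingleton_stalk_extSh_iff _ hF.coh hω 1 _).2 ?_
    haveI := hF.gen
    haveI : Subsingleton (ModuleCat.of (X.presheaf.stalk (genericPoint X)) (F.presheaf.stalk (genericPoint X))) :=
      hF.gen
    exact subsingleton_of_forall_eq 0 fun z => by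
      rw [← Abelian.Ext.mk₀_id_comp z,
        (ModuleCat.isZero_of_subsingleton _).eq_of_src (𝟙 _) 0, Abelian.Ext.mk₀_zero, Abelian.Ext.zero_comp]
  · have hT : (ShortComplex.mk q (cokernel.π q) (cokernel.condition q)).ShortExact :=
      { exact := ShortComplex.exact_cokernel q }
    exact H7Lim.ModLocFree.isFinLocFree_of_iso
      ((IsLimit.conePointUniqueUpToIso hT.exact.fIsKernel (kernelIsKernel _)) ≪≫
        (kernelCompMono (cokernel.π q) e.hom).symm) h₁

/-- Stalks of the second Ext sheaf vanish away from closed points. -/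
theorem subsingleton_stalk_ext_two (hX : Surf X) (hω : PicF.IsInvertible ω) {Q : X.Modules} (hQ : Coh.IsCoh Q)
    (x : X) (hx : ¬ IsClosed ({x} : Set X)) :
    Subsingleton ((((homFunctor Q).rightDerived 2).obj ω).presheaf.stalk x) := by
  haveI := hX.reg x
  refine (H17.EdgeIso.subsingleton_stalk_extSh_iff _ hQ hω 2 x).2 ?_
  haveI : HasProjectiveDimensionLT (ModuleCat.of (X.presheaf.stalk x) (Q.presheaf.stalk x)) 2 :=
    H10Coh.RelRes.pd_le_of_regular _ (hX.one x hx) _
  exact HasProjectiveDimensionLT.subsingleton _ 2 _ le_rfl _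

/-- Modules with finite support are globally generated. -/
theorem isGloballyGenerated_of_finite {M : X.Modules} (hfin : (CohB1.support M).Finite)
    (hcl : ∀ z ∈ CohB1.support M, IsClosed ({z} : Set X)) : Curv2.IsGloballyGenerated M := by
  refine H10Inj.GGOn.isGloballyGenerated_of_spansAt M fun x => eq_top_iff.2 fun v _ => ?_
  have hfl := H25Par.flasque_of_finite_support (H10Coh.sh M) hfin hcl fun y hy => not_not.1 hy
  obtain ⟨U, hU, t, rfl⟩ := M.presheaf.exists_germ_eq v
  obtain ⟨s, hs⟩ := hfl (le_top : U ≤ ⊤) t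
  refine Submodule.subset_span ⟨s, ?_⟩
  exact ((TopCat.Presheaf.germ_res_apply M.presheaf (homOfLE (le_top : U ≤ ⊤)) x hU s).symm.trans
    (congrArg (M.presheaf.germ U x hU) hs))

variable {k : Type u} [Field k] [X.Over (Spec (CommRingCat.of k))] [IsProper (X ↘ Spec (CommRingCat.of k))]

attribute [local instance 10000] H10Coh.hasSheafifyAb H10Coh.hasWeakSheafifyAb H10Coh.hasExtAb H10Coh.enoughInjAb

theorem hhlin_surjective_f {S : ShortComplex X.Modules} (hS : S.ShortExact) (n : ℕ)
    (h : Subsingleton (Coh.HH X S.X₃ n)) : Function.Surjective (Canon.HHlin k S.f n) := fun x =>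
  Abelian.Ext.covariant_sequence_exact₂ _ (H10Coh.shortExact_sh hS) x (h.elim _ _)

theorem hhlin_surjective_g {S : ShortComplex X.Modules} (hS : S.ShortExact) (n : ℕ)
    (h : Subsingleton (Coh.HH X S.X₁ (n + 1))) : Function.Surjective (Canon.HHlin k S.g n) := fun x =>
  Abelian.Ext.covariant_sequence_exact₃ _ (H10Coh.shortExact_sh hS) x (n₁ := n + 1) rfl (h.elim _ _)

variable (k) in
include k in
/-- The target of a map from a globally generated module is globally generated when the map is surjective at the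
generic points of the supports and the first cohomologies have the same dimension. -/
theorem isGloballyGenerated_of_h1 (hdim : topologicalKrullDim X = 2) {A B : X.Modules} (a : A ⟶ B)
    (hA : Coh.IsCoh A) (hB : Coh.IsCoh B) (hgA : Subsingleton (A.presheaf.stalk (genericPoint X)))
    (hg : Curv2.IsGloballyGenerated A)
    (hT : ∀ x, ¬ IsClosed ({x} : Set X) → Subsingleton ((cokernel a).presheaf.stalk x))
    (h1 : Module.finrank k (Coh.HH X A 1) = Module.finrank k (Coh.HH X B 1)) :
    Curv2.IsGloballyGenerated B := by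
  haveI := H28Int.isNoetherian k (X := X)
  let I := Abelian.image a
  have hSI : (ShortComplex.mk (Abelian.image.ι a) (cokernel.π a) (kernel.condition _)).ShortExact :=
    { exact := ShortComplex.exact_of_f_is_kernel _ (kernelIsKernel _) }
  have hSA : (ShortComplex.mk (kernel.ι a) (Abelian.factorThruImage a) (by
      rw [← cancel_mono (Abelian.image.ι a), Category.assoc, Abelian.image.fac, kernel.condition,
        zero_comp])).ShortExact :=
    { exact := ShortComplex.exact_of_f_is_kernel _ (isKernelOfComp _ _ (kernelIsKernel a) _ (Abelian.image.fac a))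
      mono_f := inferInstanceAs (Mono (kernel.ι a))
      epi_g := inferInstanceAs (Epi (Abelian.factorThruImage a)) }
  have hC := H10Coh.isCoh_cokernel a hA.1 hB
  have hIc : Coh.IsCoh I := H10Coh.isCoh_kernel (cokernel.π a) hB hC.1
  have hKc : Coh.IsCoh (kernel a) := H10Coh.isCoh_kernel a hA hB.1
  have hcl : ∀ z ∈ CohB1.support (cokernel a), IsClosed ({z} : Set X) := fun z hz => by
    by_contra h
    exact hz (hT z h)
  have hfin : (CohB1.support (cokernel a)).Finite :=
    H28RR.LazMuk.finite_of_forall_isClosed (H10Coh.isClosed_support _ hC.2) hcl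
  have hT1 : Subsingleton (Coh.HH X (cokernel a) 1) :=
    H25Par.subsingleton_HH_of_finite_support _ hfin hcl (fun y hy => not_not.1 hy) Nat.one_pos
  have hK2 : Subsingleton (Coh.HH X (kernel a) 2) := by
    haveI := hKc.1
    have hlt := H25Euler.dim_lt_of_forall_ne (CohB1.support (kernel a)) (H10Coh.isClosed_support _ hKc.2)
      (fun y _ => ⟨genericPoint X, genericPoint_specializes y,
        not_not.2 (H25Par.subsingleton_stalk_of_mono (kernel.ι a) hgA)⟩)
      (d := 2) (by rw [hdim]; norm_num)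
    refine H10Coh.CurveBdd.subsingleton_HH_of_dim (k := k) hKc.1 (H10Coh.isClosed_support _ hKc.2) subset_rfl
      (d := 1) ?_ Nat.one_lt_two
    exact Order.le_of_lt_succ hlt
  haveI := H10Coh.finite_HH_proper k X A hA 1
  haveI := H10Coh.finite_HH_proper k X I hIc 1
  haveI := H10Coh.finite_HH_proper k X B hB 1
  have hs1 : Function.Surjective (Canon.HHlin k (Abelian.image.ι a) 1) := hhlin_surjective_f hSI 1 hT1
  have hs2 : Function.Surjective (Canon.HHlin k (Abelian.factorThruImage a) 1) := hhlin_surjective_g hSA 1 hK2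
  have hinj : Function.Injective (Canon.HHlin k (Abelian.image.ι a) 1) :=
    (LinearMap.injective_iff_surjective_of_finrank_eq_finrank (le_antisymm
      ((LinearMap.finrank_le_finrank_of_surjective hs2).trans h1.le)
      (LinearMap.finrank_le_finrank_of_surjective hs1))).2 hs1
  have hsurj : Function.Surjective (Canon.HHlin k (cokernel.π a) 0) := fun x => by
    refine LeadFF.exists_Hm_g hSI 0 x (hinj ?_)
    exact (LeadFF.Hm_dl hSI 0 x).trans (map_zero (Canon.HHlin k (Abelian.image.ι a) 1)).symm
  refine S10945.result X _ hSI ?_ (H06DefAmple.gg_of_epi (Abelian.factorThruImage a) hg)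
    (isGloballyGenerated_of_finite hfin hcl)
  intro t
  obtain ⟨y, hy⟩ := hsurj ((H10Coh.HH0Equiv _).symm t)
  refine ⟨H10Coh.HH0Equiv _ y, ?_⟩
  exact (H28NT.HH0Equiv_map (cokernel.π a) y).symm.trans ((congrArg _ hy).trans (AddEquiv.apply_symm_apply _ _))

end Groth.Agent.H7ExtEdge
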